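import Cfsg.Agent.H15.Trichotomy.Core

/-!
Component trichotomy for a coprime action of a group of prime order, from the layer containment for
invariant subgroups.
-/

set_option autoImplicit false

open scoped commutatorElement

universe u

namespace H15.Trichotomy

open Cfsg Cfsg.Comp

/-- Layers of subgroups `H = [H, R]` invariant under `R` and its fixed points lie in the layer. -/
def LayerStep : Prop :=
  ∀ {X : Type u} [Group X] [Finite X] (G R : Subgroup X) (r : ℕ) [Fact r.Prime],
    Nat.card ↥R = r → (Nat.card ↥G).Coprime r → R ≤ Subgroup.normalizer (G : Set X) →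
    ∀ H : Subgroup X, H ≤ G →
      R ⊔ (G ⊓ Subgroup.centralizer (R : Set X)) ≤ Subgroup.normalizer (H : Set X) →
      ⁅H, R⁆ = H → (Cfsg.layer ↥H).map H.subtype ≤ (Cfsg.layer ↥G).map G.subtype

variable {X : Type u} [Group X] [Finite X]

/-- The join of the conjugates of `K` under `H`. -/
def closureUnder (K H : Subgroup X) : Subgroup X :=
  sSup {M | ∃ g ∈ H, M = K.map (MulAut.conj g).toMonoidHom}

theorem map_conj_conj (K : Subgroup X) (g h : X) :
    (K.map (MulAut.conj g).toMonoidHom).map (MulAut.conj h).toMonoidHom =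
      K.map (MulAut.conj (h * g)).toMonoidHom := by
  rw [Subgroup.map_map, map_mul]
  rfl

theorem le_closureUnder (K H : Subgroup X) : K ≤ closureUnder K H :=
  le_sSup ⟨1, one_mem H, by ext x; simp [Subgroup.mem_map]⟩

theorem le_normalizer_closureUnder (K H : Subgroup X) :
    H ≤ Subgroup.normalizer (closureUnder K H : Set X) := by
  intro g hg
  apply mem_normalizer_of_map_conj_eq
  refine Subgroup.eq_of_le_of_card_ge ?_
    (Nat.card_congr (Subgroup.equivMapOfInjective _ _ (MulAut.conj g).injective).toEquiv).le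
  rw [closureUnder, sSup_eq_iSup', Subgroup.map_iSup]
  refine iSup_le fun ⟨M, k, hk, hM⟩ => ?_
  subst hM
  rw [map_conj_conj]
  exact le_iSup (fun M : {M | ∃ g ∈ H, M = K.map (MulAut.conj g).toMonoidHom} => (M : Subgroup X))
    ⟨_, g * k, mul_mem hg hk, rfl⟩

variable {K H : Subgroup X}
  (hcomm : ∀ g ∈ H, K.map (MulAut.conj g).toMonoidHom ≠ K →
    ⁅K, K.map (MulAut.conj g).toMonoidHom⁆ = ⊥)

include hcomm

theorem conj_pair {a b : X} (ha : a ∈ H) (hb : b ∈ H) :
    K.map (MulAut.conj a).toMonoidHom = K.map (MulAut.conj b).toMonoidHom ∨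
      ⁅K.map (MulAut.conj a).toMonoidHom, K.map (MulAut.conj b).toMonoidHom⁆ = ⊥ := by
  by_cases e : K.map (MulAut.conj (a⁻¹ * b)).toMonoidHom = K
  · left
    conv_lhs => rw [← e]
    rw [map_conj_conj, mul_inv_cancel_left]
  · right
    have := hcomm _ (mul_mem (inv_mem ha) hb) e
    have h2 := congrArg (Subgroup.map (MulAut.conj a).toMonoidHom) this
    rwa [Subgroup.map_commutator, map_conj_conj, mul_inv_cancel_left, Subgroup.map_bot] at h2

theorem closureUnder_le_normalizer {g : X} (hg : g ∈ H) :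
    closureUnder K H ≤
      Subgroup.normalizer ((K.map (MulAut.conj g).toMonoidHom : Subgroup X) : Set X) :=
  sSup_le fun M ⟨k, hk, hM⟩ => by
    subst hM
    rcases conj_pair hcomm hk hg with e | e
    · exact e ▸ Subgroup.le_normalizer
    · exact (Subgroup.commutator_eq_bot_iff_le_centralizer.mp e).trans
        (Subgroup.centralizer_le_normalizer _)

theorem isComponent_closureUnder (hK : IsQuasisimple ↥K) {g : X} (hg : g ∈ H) :
    IsComponent ((K.map (MulAut.conj g).toMonoidHom).subgroupOf (closureUnder K H)) := by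
  have hle : K.map (MulAut.conj g).toMonoidHom ≤ closureUnder K H := le_sSup ⟨g, hg, rfl⟩
  refine ⟨(Subgroup.normal_subgroupOf_iff_le_normalizer hle).mpr
    (closureUnder_le_normalizer hcomm hg) |>.isSubnormal, ?_⟩
  refine isQuasisimple_of_equiv (Subgroup.subgroupOfEquivOfLe hle).symm ?_
  exact isQuasisimple_of_equiv
    (Subgroup.equivMapOfInjective K _ (MulAut.conj g).injective) hK

omit hcomm

/-- The component trichotomy. -/
theorem trichotomy (hstep : LayerStep.{u}) (G R : Subgroup X) (r : ℕ) [Fact r.Prime]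
    (hR : Nat.card ↥R = r) (hcop : (Nat.card ↥G).Coprime r)
    (hnorm : R ≤ Subgroup.normalizer (G : Set X)) (K : Subgroup X) (hKG : K ≤ G)
    (hKq : Cfsg.IsQuasisimple ↥K)
    (hcomm : ∀ g ∈ R ⊔ (G ⊓ Subgroup.centralizer (R : Set X)),
      K.map (MulAut.conj g).toMonoidHom ≠ K → ⁅K, K.map (MulAut.conj g).toMonoidHom⁆ = ⊥) :
    (K ≤ G ⊓ Subgroup.centralizer (R : Set X) ∧
        Cfsg.IsComponent (K.subgroupOf (G ⊓ Subgroup.centralizer (R : Set X)))) ∨
      Cfsg.IsComponent (K.subgroupOf G) ∨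
      ∃ L : Subgroup X, L ≤ G ∧ Cfsg.IsComponent (L.subgroupOf G) ∧
        (∀ a ∈ R, L.map (MulAut.conj a).toMonoidHom = L) ∧ K ≤ L := by
  set C := G ⊓ Subgroup.centralizer (R : Set X) with hC
  have hperf : ⁅K, K⁆ = K := by
    have := congrArg (Subgroup.map K.subtype) (perfect_of_quasisimple hKq)
    rwa [commutator_def, Subgroup.map_commutator, ← MonoidHom.range_eq_map, K.range_subtype] at this
  by_cases hKC : K ≤ C
  · left
    refine ⟨hKC, ?_⟩
    have hcommC : ∀ g ∈ C, K.map (MulAut.conj g).toMonoidHom ≠ K →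
        ⁅K, K.map (MulAut.conj g).toMonoidHom⁆ = ⊥ := fun g hg =>
      hcomm g (Subgroup.mem_sup_right hg)
    have hDC : closureUnder K C ≤ C := sSup_le fun M ⟨g, hg, hM⟩ => by
      subst hM
      rintro _ ⟨x, hx, rfl⟩
      exact mul_mem (mul_mem hg (hKC hx)) (inv_mem hg)
    have h1 := isComponent_closureUnder hcommC hKq (one_mem C)
    have hone : K.map (MulAut.conj (1 : X)).toMonoidHom = K := by
      ext x; simp [Subgroup.mem_map]
    rw [hone] at h1
    have hn : ((closureUnder K C).subgroupOf C).Normal :=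
      (Subgroup.normal_subgroupOf_iff_le_normalizer hDC).mpr (le_normalizer_closureUnder K C)
    have h2 := isComponent_map_equiv (Subgroup.subgroupOfEquivOfLe hDC).symm h1
    have h3 := isComponent_map_subtype hn.isSubnormal h2
    have e : ((K.subgroupOf (closureUnder K C)).map
        (Subgroup.subgroupOfEquivOfLe hDC).symm.toMonoidHom).map
          ((closureUnder K C).subgroupOf C).subtype = K.subgroupOf C := by
      ext x
      simp only [Subgroup.mem_map, Subgroup.mem_subgroupOf]
      constructor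
      · rintro ⟨_, ⟨y, hy, rfl⟩, rfl⟩
        exact hy
      · intro hx
        exact ⟨_, ⟨⟨x, le_closureUnder K C hx⟩, hx, rfl⟩, rfl⟩
    rwa [e] at h3
  right
  set H := R ⊔ C with hH
  set D := closureUnder K H with hD
  have hHG : H ≤ Subgroup.normalizer (G : Set X) :=
    sup_le hnorm (inf_le_left.trans Subgroup.le_normalizer)
  have hRn : H ≤ Subgroup.normalizer (R : Set X) :=
    sup_le Subgroup.le_normalizer (inf_le_right.trans (Subgroup.centralizer_le_normalizer _))
  have hFam : ∀ g ∈ H, K.map (MulAut.conj g).toMonoidHom ≤ G := by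
    intro g hg
    rintro _ ⟨x, hx, rfl⟩
    exact (Subgroup.mem_normalizer_iff.mp (hHG hg) x).mp (hKG hx)
  have hDG : D ≤ G := sSup_le fun M ⟨g, hg, hM⟩ => hM ▸ hFam g hg
  have hDn : H ≤ Subgroup.normalizer (D : Set X) := le_normalizer_closureUnder K H
  have hDR : ⁅D, R⁆ = D := by
    apply le_antisymm
    · rw [Subgroup.commutator_le]
      intro d hd a ha
      rw [commutatorElement_def, mul_assoc d, mul_assoc d]
      exact mul_mem hd ((Subgroup.mem_normalizer_iff.mp (hDn (Subgroup.mem_sup_left ha)) _).mp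
        (inv_mem hd))
    have hTn : D ≤ Subgroup.normalizer ((⁅D, R⁆ : Subgroup X) : Set X) := by
      rw [Subgroup.commutator_def, Subgroup.le_normalizer_closure_iff]
      rintro e he _ ⟨d, hd, a, ha, rfl⟩
      have : e * ⁅d, a⁆ * e⁻¹ = ⁅e * d, a⁆ * ⁅e, a⁆⁻¹ := by
        simp only [commutatorElement_def]; group
      rw [this]
      exact mul_mem (Subgroup.subset_closure ⟨_, mul_mem he hd, a, ha, rfl⟩)
        (inv_mem (Subgroup.subset_closure ⟨e, he, a, ha, rfl⟩))
    refine sSup_le fun M ⟨g, hg, hM⟩ => ?_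
    subst hM
    set M := K.map (MulAut.conj g).toMonoidHom with hM
    have hMD : M ≤ D := le_sSup ⟨g, hg, rfl⟩
    have hMq : IsQuasisimple ↥M := isQuasisimple_of_equiv
      (Subgroup.equivMapOfInjective K _ (MulAut.conj g).injective) hKq
    have hMperf : ⁅M, M⁆ = M := by rw [hM, ← Subgroup.map_commutator, hperf]
    set T := ⁅D, R⁆
    rcases normal_eq_top_or_le_center hMq (N := T.subgroupOf M)
      ⟨fun x hx y => (Subgroup.mem_normalizer_iff.mp (hTn (hMD y.2)) _).mp hx⟩ with e | e
    · exact Subgroup.subgroupOf_eq_top.mp e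
    exfalso
    have hcen : ∀ t ∈ M, t ∈ T → ∀ m ∈ M, m * t = t * m := fun t ht htT m hm =>
      congrArg Subtype.val
        (Subgroup.mem_center_iff.mp (e (show (⟨t, ht⟩ : M) ∈ T.subgroupOf M from htT)) ⟨m, hm⟩)
    obtain ⟨x, hx, a, ha, hne⟩ : ∃ x ∈ M, ∃ a ∈ R, a * x * a⁻¹ ≠ x := by
      by_contra hc
      push_neg at hc
      apply hKC
      intro k hk
      refine ⟨hKG hk, Subgroup.mem_centralizer_iff.mpr fun a ha => ?_⟩
      have hga : g⁻¹ * a * g ∈ R := by
        have := (Subgroup.mem_normalizer_iff.mp (hRn (inv_mem hg)) a).mp ha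
        rwa [inv_inv] at this
      have hga' : g * a * g⁻¹ ∈ R := (Subgroup.mem_normalizer_iff.mp (hRn hg) a).mp ha
      have h1 := hc (g * k * g⁻¹) ⟨k, hk, rfl⟩ (g * a * g⁻¹) hga'
      have h2 : g * (a * k * a⁻¹) * g⁻¹ = g * k * g⁻¹ := by
        refine Eq.trans ?_ h1; group
      have h3 : a * k * a⁻¹ = k := mul_left_cancel (mul_right_cancel h2)
      exact mul_inv_eq_iff_eq_mul.mp h3
    have hT : ∀ m ∈ M, m⁻¹ * (a * m * a⁻¹) ∈ T := by
      intro m hm
      have : m⁻¹ * (a * m * a⁻¹) = ⁅m⁻¹, a⁆ := by rw [commutatorElement_def]; group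
      rw [this]
      exact Subgroup.commutator_mem_commutator (inv_mem (hMD hm)) ha
    by_cases hMa : M.map (MulAut.conj a).toMonoidHom = M
    · have hmem : ∀ m ∈ M, a * m * a⁻¹ ∈ M := fun m hm => hMa.le ⟨m, hm, rfl⟩
      exact hne (fixed_of_central_shift hMperf (MulAut.conj a).toMonoidHom hmem
        (fun m hm m' hm' => (hcen _ (mul_mem (inv_mem hm) (hmem m hm)) (hT m hm) m' hm').symm) x hx)
    · have hag : a * g ∈ H := mul_mem (Subgroup.mem_sup_left ha) hg
      have hMM : ⁅M, M.map (MulAut.conj a).toMonoidHom⁆ = ⊥ := by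
        rw [hM, map_conj_conj]
        refine (conj_pair hcomm hg hag).resolve_left fun he => hMa ?_
        rw [hM, map_conj_conj]
        exact he.symm
      apply not_isMulCommutative_of_quasisimple hMq
      refine Subgroup.le_centralizer_iff_isMulCommutative.mp ?_
      conv_lhs => rw [← hMperf]
      rw [Subgroup.commutator_le]
      intro y hy m hm
      rw [Subgroup.mem_centralizer_iff]
      intro z hz
      -- `⁅y, m⁆` is a conjugate of a commutator of `y` with an element of `T`
      have ht := hT m hm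
      set t := m⁻¹ * (a * m * a⁻¹) with htdef
      have hcy : y * (a * m * a⁻¹) = a * m * a⁻¹ * y :=
        commute_of_commutator_eq_bot hMM hy ⟨m, hm, rfl⟩
      have hyt : ⁅y, m⁻¹⁆ = y * t * y⁻¹ * t⁻¹ := by
        rw [htdef, commutatorElement_def]
        calc y * m⁻¹ * y⁻¹ * m⁻¹⁻¹
            = y * m⁻¹ * y⁻¹ * (y * (a * m * a⁻¹)) * y⁻¹ * (a * m * a⁻¹)⁻¹ * m := by
              rw [hcy]; group
          _ = y * (m⁻¹ * (a * m * a⁻¹)) * y⁻¹ * (m⁻¹ * (a * m * a⁻¹))⁻¹ := by group
      have hmT : ⁅y, m⁻¹⁆ ∈ T := by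
        rw [hyt]
        exact mul_mem ((Subgroup.mem_normalizer_iff.mp (hTn (hMD hy)) t).mp ht) (inv_mem ht)
      have hmM : ⁅y, m⁻¹⁆ ∈ M :=
        mul_mem (mul_mem (mul_mem hy (inv_mem hm)) (inv_mem hy)) (inv_mem (inv_mem hm))
      have hyinv : ⁅y, m⁆ = m * ⁅y, m⁻¹⁆⁻¹ * m⁻¹ := by
        simp only [commutatorElement_def]; group
      have hc1 := hcen _ hmM hmT m hm
      rw [hyinv]
      have : m * ⁅y, m⁻¹⁆⁻¹ * m⁻¹ = ⁅y, m⁻¹⁆⁻¹ := by
        rw [(Commute.inv_right (show Commute m ⁅y, m⁻¹⁆ from hc1)).eq]; group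
      rw [this]
      exact (Commute.inv_right (show Commute z ⁅y, m⁻¹⁆ from hcen _ hmM hmT z hz)).eq
  have hlayer : (layer ↥D).map D.subtype = D := by
    apply le_antisymm (Subgroup.map_subtype_le _)
    refine sSup_le fun M ⟨g, hg, hM⟩ => ?_
    subst hM
    have hle : K.map (MulAut.conj g).toMonoidHom ≤ D := le_sSup ⟨g, hg, rfl⟩
    conv_lhs => rw [← Subgroup.map_subgroupOf_eq_of_le hle]
    exact Subgroup.map_mono (le_layer (isComponent_closureUnder hcomm hKq hg))
  have hDE : D ≤ (layer ↥G).map G.subtype := by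
    conv_lhs => rw [← hlayer]
    exact hstep G R r hR hcop hnorm D hDG hDn hDR
  obtain ⟨⟨a, haR⟩, hgen⟩ := (isCyclic_of_prime_card hR).exists_generator
  have haN : a ∈ Subgroup.normalizer (G : Set X) := hnorm haR
  let α : MulAut ↥G :=
    ((MulAut.conj a).subgroupMap G).trans (MulEquiv.subgroupCongr (map_conj_eq_of_mem_normalizer haN))
  have hα : ∀ (i : ℕ) (x : ↥G), ((α ^ i) x : X) = a ^ i * x * (a ^ i)⁻¹ := by
    intro i
    induction i with
    | zero => intro x; simp
    | succ i ih =>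
      intro x
      rw [pow_succ', MulAut.mul_apply]
      show a * ((α ^ i) x : X) * a⁻¹ = _
      rw [ih, pow_succ']
      group
  have har : a ^ r = 1 := by
    have h1 := pow_card_eq_one' (G := ↥R) (x := ⟨a, haR⟩)
    rw [hR] at h1
    exact congrArg Subtype.val h1
  have hfixC : ∀ c : ↥G, α c = c → (c : X) ∈ C := by
    intro c hc
    refine ⟨c.2, Subgroup.mem_centralizer_iff.mpr fun b hb => ?_⟩
    have e := hα 1 c
    rw [pow_one, pow_one, hc] at e
    have hcomm' : Commute a (c : X) := by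
      show a * (c : X) = c * a
      conv_rhs => rw [e]
      group
    obtain ⟨i, hi⟩ := Subgroup.mem_zpowers_iff.mp (hgen ⟨b, hb⟩)
    have hi' : a ^ i = b := congrArg Subtype.val hi
    rw [← hi']
    exact hcomm'.zpow_left i
  set KG := K.subgroupOf G with hKGdef
  have hmapKG : KG.map G.subtype = K := Subgroup.map_subgroupOf_eq_of_le hKG
  have hconjKG : ∀ (φ : MulAut ↥G) (b : X), b ∈ H → (∀ x : ↥G, (φ x : X) = b * x * b⁻¹) →
      KG.map φ.toMonoidHom = KG ∨ ⁅KG, KG.map φ.toMonoidHom⁆ = ⊥ := by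
    intro φ b hb hφ
    have e : (KG.map φ.toMonoidHom).map G.subtype = K.map (MulAut.conj b).toMonoidHom := by
      rw [Subgroup.map_map]
      conv_rhs => rw [← hmapKG, Subgroup.map_map]
      congr 1
      ext x
      exact hφ x
    by_cases hc : K.map (MulAut.conj b).toMonoidHom = K
    · left
      apply Subgroup.map_injective G.subtype_injective
      rw [e, hc, hmapKG]
    · right
      apply Subgroup.map_injective G.subtype_injective
      rw [Subgroup.map_commutator, e, hmapKG, hcomm b hb hc, Subgroup.map_bot]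
  have hcfg : Config α r KG :=
    { prime := Fact.out
      ord := by
        ext x
        rw [hα, har]
        simp
      cop := fun hd => (Fact.out : r.Prime).one_lt.ne'
        (Nat.dvd_one.mp (hcop ▸ Nat.dvd_gcd hd dvd_rfl))
      qs := isQuasisimple_of_equiv (Subgroup.subgroupOfEquivOfLe hKG).symm hKq
      le_layer := by
        intro x hx
        obtain ⟨y, hy, hyx⟩ := hDE (le_closureUnder K H (show (x : X) ∈ K from hx))
        exact Subtype.ext hyx ▸ hy
      moved := by
        by_contra hc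
        apply hKC
        intro k hk
        exact hfixC ⟨k, hKG hk⟩ (Classical.byContradiction fun hn => hc ⟨⟨k, hKG hk⟩, hk, hn⟩)
      conj := fun c hc => hconjKG (MulAut.conj c) c (Subgroup.mem_sup_right (hfixC c hc))
        (fun x => rfl)
      pow := fun i => hconjKG (α ^ i) (a ^ i) (Subgroup.mem_sup_left (pow_mem haR i)) (hα i) }
  rcases hcfg.conclusion with h | ⟨L, hL, hLα, hKL⟩
  · exact Or.inl h
  right
  refine ⟨L.map G.subtype, Subgroup.map_subtype_le _, ?_, fun b hb => ?_, ?_⟩
  · rw [Subgroup.subgroupOf, Subgroup.comap_map_eq_self_of_injective G.subtype_injective]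
    exact hL
  · obtain ⟨i, hi⟩ := Subgroup.mem_zpowers_iff.mp (hgen ⟨b, hb⟩)
    have hi' : a ^ i = b := congrArg Subtype.val hi
    apply map_conj_eq_of_mem_normalizer
    rw [← hi']
    refine zpow_mem (mem_normalizer_of_map_conj_eq ?_) i
    conv_rhs => rw [← hLα]
    rw [Subgroup.map_map, Subgroup.map_map]
    congr 1
  · intro k hk
    exact ⟨⟨k, hKG hk⟩, hKL (show (⟨k, hKG hk⟩ : ↥G) ∈ KG from hk), rfl⟩

end H15.Trichotomy
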