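import Cfsg.Agent.CompLayer
import Cfsg.Agent.S0033

/-!
A perfect subgroup of the layer that commutes with its other conjugates under a coprime automorphism
`α` of prime order and under the fixed points of `α`: it is a component, or it lies in an
`α`-invariant component, unless `α` centralises it.
-/

set_option autoImplicit false

open scoped commutatorElement

namespace H15.Trichotomy

open Cfsg Cfsg.Comp

variable {G : Type*} [Group G]

/-- A perfect subgroup on which an endomorphism is trivial modulo the centre is fixed pointwise. -/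
theorem fixed_of_central_shift {K : Subgroup G} (hK : ⁅K, K⁆ = K) (φ : G →* G)
    (hmem : ∀ k ∈ K, φ k ∈ K) (hc : ∀ k ∈ K, ∀ k' ∈ K, Commute (k⁻¹ * φ k) k') :
    ∀ k ∈ K, φ k = k := by
  have h : K ≤ φ.eqLocus (MonoidHom.id G) := by
    conv_lhs => rw [← hK]
    rw [Subgroup.commutator_le]
    intro k hk k' hk'
    show φ ⁅k, k'⁆ = ⁅k, k'⁆
    obtain ⟨z, e⟩ : ∃ z, φ k = k * z := ⟨k⁻¹ * φ k, (mul_inv_cancel_left _ _).symm⟩
    obtain ⟨z', e'⟩ : ∃ z, φ k' = k' * z := ⟨k'⁻¹ * φ k', (mul_inv_cancel_left _ _).symm⟩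
    have hz'K : z' ∈ K := by
      have := mul_mem (inv_mem hk') (hmem k' hk')
      rwa [e', inv_mul_cancel_left] at this
    have c1 : Commute z k' := by
      have := hc k hk k' hk'
      rwa [e, inv_mul_cancel_left] at this
    have c2 : Commute z' k := by
      have := hc k' hk' k hk
      rwa [e', inv_mul_cancel_left] at this
    have c3 : Commute z z' := by
      have := hc k hk z' hz'K
      rwa [e, inv_mul_cancel_left] at this
    rw [map_commutatorElement, e, e', commutatorElement_def, commutatorElement_def]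
    simp only [mul_inv_rev]
    calc k * z * (k' * z') * (z⁻¹ * k⁻¹) * (z'⁻¹ * k'⁻¹)
        = k * (z * k') * z' * z⁻¹ * k⁻¹ * (z'⁻¹ * k'⁻¹) := by group
      _ = k * (k' * z) * z' * z⁻¹ * k⁻¹ * (z'⁻¹ * k'⁻¹) := by rw [c1.eq]
      _ = k * k' * (z * z') * z⁻¹ * k⁻¹ * (z'⁻¹ * k'⁻¹) := by group
      _ = k * k' * (z' * z) * z⁻¹ * k⁻¹ * (z'⁻¹ * k'⁻¹) := by rw [c3.eq]
      _ = k * k' * (z' * k⁻¹) * (z'⁻¹ * k'⁻¹) := by group
      _ = k * k' * (k⁻¹ * z') * (z'⁻¹ * k'⁻¹) := by rw [c2.inv_right.eq]
      _ = k * k' * k⁻¹ * k'⁻¹ := by group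
  exact fun k hk => h hk

theorem conj_mem_centralizer {L : Subgroup G} {g : G} (hg : g ∈ Subgroup.normalizer (L : Set G))
    {u : G} (hu : u ∈ Subgroup.centralizer (L : Set G)) :
    g * u * g⁻¹ ∈ Subgroup.centralizer (L : Set G) :=
  (le_normalizer_centralizer (H := L) le_rfl hg _).mp hu

theorem same_action {L : Subgroup G} {g h : G} (hu : g⁻¹ * h ∈ Subgroup.centralizer (L : Set G))
    {x : G} (hx : x ∈ L) : g * x * g⁻¹ = h * x * h⁻¹ := by
  have e := Subgroup.mem_centralizer_iff.mp hu x hx
  calc g * x * g⁻¹ = g * (x * (g⁻¹ * h)) * h⁻¹ := by group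
    _ = g * (g⁻¹ * h * x) * h⁻¹ := by rw [e]
    _ = h * x * h⁻¹ := by group

theorem mem_centralizer_of_same_action {L : Subgroup G} {g h : G}
    (e : ∀ x ∈ L, g * x * g⁻¹ = h * x * h⁻¹) : g⁻¹ * h ∈ Subgroup.centralizer (L : Set G) := by
  rw [Subgroup.mem_centralizer_iff]
  intro x hx
  calc x * (g⁻¹ * h) = g⁻¹ * (g * x * g⁻¹) * h := by group
    _ = g⁻¹ * (h * x * h⁻¹) * h := by rw [e x hx]
    _ = g⁻¹ * h * x := by group

/-- Commutators of elements congruent modulo the centralizer of `L` agree modulo it. -/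
theorem commutator_mem_centralizer {L : Subgroup G} {a b a' b' : G}
    (ha : a ∈ Subgroup.normalizer (L : Set G)) (hb : b ∈ Subgroup.normalizer (L : Set G))
    (ha' : a⁻¹ * a' ∈ Subgroup.centralizer (L : Set G))
    (hb' : b⁻¹ * b' ∈ Subgroup.centralizer (L : Set G)) (hab : Commute a b) :
    ⁅a', b'⁆ ∈ Subgroup.centralizer (L : Set G) := by
  set N := Subgroup.centralizer (L : Set G)
  set u := a⁻¹ * a'
  set v := b⁻¹ * b'
  have ea : a' = a * u := by simp [u]
  have eb : b' = b * v := by simp [v]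
  clear_value u v
  have : ⁅a', b'⁆ =
      a * b * ((b⁻¹ * u * b⁻¹⁻¹) * v * u⁻¹ * (a⁻¹ * v⁻¹ * a⁻¹⁻¹)) * (a * b)⁻¹ := by
    rw [commutatorElement_def, ea, eb]
    have : b⁻¹ * a⁻¹ = a⁻¹ * b⁻¹ := hab.inv_inv.eq.symm
    calc a * u * (b * v) * (a * u)⁻¹ * (b * v)⁻¹
        = a * b * ((b⁻¹ * u * b) * v * u⁻¹ * (a⁻¹ * v⁻¹ * a)) * (a⁻¹ * b⁻¹) := by group
      _ = a * b * ((b⁻¹ * u * b⁻¹⁻¹) * v * u⁻¹ * (a⁻¹ * v⁻¹ * a⁻¹⁻¹)) * (a * b)⁻¹ := by
        rw [← this, mul_inv_rev, inv_inv, inv_inv]
  rw [this]
  refine conj_mem_centralizer (mul_mem ha hb) ?_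
  exact mul_mem (mul_mem (mul_mem (conj_mem_centralizer (inv_mem hb) ha') hb') (inv_mem ha'))
    (conj_mem_centralizer (inv_mem ha) (inv_mem hb'))

section layer

variable [Finite G]

theorem component_perfect_le {L : Subgroup G} (hL : IsComponent L)
    (h : ∀ x ∈ L, ∀ y ∈ L, ⁅x, y⁆ ∈ Subgroup.centralizer (L : Set G)) : False := by
  refine isComponent_not_le_centralizer hL ?_
  conv_lhs => rw [← isComponent_perfect hL]
  rw [Subgroup.commutator_le]
  exact h

theorem layer_le_sup_others {L : Subgroup G} :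
    layer G ≤ L ⊔ sSup {M | IsComponent M ∧ M ≠ L} :=
  layer_le_iff.mpr fun M hM => by
    by_cases e : M = L
    · exact e ▸ le_sup_left
    · exact le_trans (le_sSup (show M ∈ {M | IsComponent M ∧ M ≠ L} from ⟨hM, e⟩)) le_sup_right

theorem others_le_centralizer {L : Subgroup G} (hL : IsComponent L) :
    sSup {M | IsComponent M ∧ M ≠ L} ≤ Subgroup.centralizer (L : Set G) :=
  sSup_le fun _M hM => Subgroup.commutator_eq_bot_iff_le_centralizer.mp
    ((component_eq_or_commute hM.1 hL).resolve_left hM.2)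

theorem exists_decomp {L : Subgroup G} (hL : IsComponent L) {g : G} (hg : g ∈ layer G) :
    ∃ l ∈ L, ∃ w ∈ sSup {M | IsComponent M ∧ M ≠ L}, g = l * w := by
  have hn : L ≤ Subgroup.normalizer ((sSup {M | IsComponent M ∧ M ≠ L} : Subgroup G) : Set G) :=
    ((Subgroup.le_centralizer_iff).mp (others_le_centralizer hL)).trans
      (Subgroup.centralizer_le_normalizer _)
  have := layer_le_sup_others (L := L) hg
  rw [← SetLike.mem_coe, Subgroup.coe_mul_of_left_le_normalizer_right _ _ hn] at this
  obtain ⟨l, hl, w, hw, rfl⟩ := Set.mem_mul.mp this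
  exact ⟨l, hl, w, hw, rfl⟩

variable (α : MulAut G) {r : ℕ} (hr : r.Prime) (hord : α ^ r = 1)

/-- The product of the images of `l` under the powers of `α`. -/
def diag (r : ℕ) (l : G) : G := ((List.range r).map fun i => (α ^ i) l).prod

/-- `K` acts on `L` as all inner automorphisms of `L`. -/
def Full (K L : Subgroup G) : Prop :=
  ∀ l ∈ L, ∃ k ∈ K, k⁻¹ * l ∈ Subgroup.centralizer (L : Set G)

theorem full_map {K L : Subgroup G} (h : Full K L) (φ : MulAut G) :
    Full (K.map φ.toMonoidHom) (L.map φ.toMonoidHom) := by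
  rintro _ ⟨l, hl, rfl⟩
  obtain ⟨k, hk, hc⟩ := h l hl
  refine ⟨φ k, ⟨k, hk, rfl⟩, ?_⟩
  rw [Subgroup.mem_centralizer_iff]
  rintro _ ⟨x, hx, rfl⟩
  show φ x * ((φ k)⁻¹ * φ l) = (φ k)⁻¹ * φ l * φ x
  rw [← map_inv, ← map_mul, ← map_mul, ← map_mul, Subgroup.mem_centralizer_iff.mp hc x hx]

theorem not_commute_of_full {K K' L : Subgroup G} (hL : IsComponent L)
    (hK : K ≤ Subgroup.normalizer (L : Set G)) (hK' : K' ≤ Subgroup.normalizer (L : Set G))
    (h : Full K L) (h' : Full K' L) : ⁅K, K'⁆ ≠ ⊥ := by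
  intro hcom
  refine component_perfect_le hL fun x hx y hy => ?_
  obtain ⟨k, hk, hkc⟩ := h x hx
  obtain ⟨k', hk', hkc'⟩ := h' y hy
  exact commutator_mem_centralizer (hK hk) (hK' hk') hkc hkc'
    (commute_of_commutator_eq_bot hcom hk hk')

/-- An element centralising the component `L` and normalising `K` centralises `K`. -/
theorem commute_of_centralizes {K L : Subgroup G} (hK : IsQuasisimple ↥K)
    (hKL : K ≤ Subgroup.normalizer (L : Set G))
    (hKc : ¬ K ≤ Subgroup.centralizer (L : Set G)) {c : G}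
    (hc : c ∈ Subgroup.centralizer (L : Set G))
    (hcK : c ∈ Subgroup.normalizer (K : Set G)) : ∀ k ∈ K, c * k * c⁻¹ = k := by
  have hperf : ⁅K, K⁆ = K := by
    have := congrArg (Subgroup.map K.subtype) (perfect_of_quasisimple hK)
    rwa [commutator_def, Subgroup.map_commutator, ← MonoidHom.range_eq_map, K.range_subtype] at this
  refine fixed_of_central_shift hperf (MulAut.conj c).toMonoidHom
    (fun k hk => (Subgroup.mem_normalizer_iff.mp hcK k).mp hk) fun k hk k' hk' => ?_
  set z := k⁻¹ * (c * k * c⁻¹) with hz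
  have hzK : z ∈ K := mul_mem (inv_mem hk) ((Subgroup.mem_normalizer_iff.mp hcK k).mp hk)
  have hzc : z ∈ Subgroup.centralizer (L : Set G) := by
    have : z = (k⁻¹ * c * k⁻¹⁻¹) * c⁻¹ := by rw [hz]; group
    rw [this]
    exact mul_mem (conj_mem_centralizer (inv_mem (hKL hk)) hc) (inv_mem hc)
  rcases normal_eq_top_or_le_center hK
    (N := (Subgroup.centralizer (L : Set G)).subgroupOf K)
    ⟨fun x hx g => conj_mem_centralizer (hKL g.2) hx⟩ with h | h
  · exact absurd (Subgroup.subgroupOf_eq_top.mp h) hKc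
  · exact (congrArg Subtype.val (Subgroup.mem_center_iff.mp
      (h (show (⟨z, hzK⟩ : K) ∈ (Subgroup.centralizer (L : Set G)).subgroupOf K from hzc))
      ⟨k', hk'⟩)).symm

section moved

variable {α} {L : Subgroup G}

include hr hord in
theorem map_pow_ne (hmove : L.map α.toMonoidHom ≠ L) {i : ℕ} (hi : ¬ r ∣ i) :
    L.map (α ^ i).toMonoidHom ≠ L := by
  intro e
  apply hmove
  obtain ⟨n, hn⟩ : ∃ n, (i * n) % r = 1 := by
    have hc : Nat.Coprime i r := ((Nat.Prime.coprime_iff_not_dvd hr).mpr hi).symm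
    obtain ⟨n, -, hn⟩ := Nat.exists_mul_mod_eq_one_of_coprime hc hr.one_lt
    exact ⟨n, hn⟩
  have hα : α = (α ^ i) ^ n := by
    rw [← pow_mul, ← Nat.mod_add_div (i * n) r, pow_add, pow_mul α r, hord, one_pow, mul_one, hn,
      pow_one]
  have hmul : ∀ f g : MulAut G, L.map (f * g).toMonoidHom = (L.map g.toMonoidHom).map f.toMonoidHom :=
    fun f g => by rw [Subgroup.map_map]; rfl
  have : ∀ m, L.map ((α ^ i) ^ m).toMonoidHom = L := by
    intro m
    induction m with
    | zero => rw [pow_zero]; exact Subgroup.map_id L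
    | succ m ih => rw [pow_succ, hmul, e, ih]
  rw [hα]
  exact this n

theorem pow_component (hL : IsComponent L) (i : ℕ) : IsComponent (L.map (α ^ i).toMonoidHom) :=
  isComponent_map_equiv _ hL

include hr hord in
theorem diag_spec (hL : IsComponent L) (hmove : L.map α.toMonoidHom ≠ L) {l : G} (hl : l ∈ L) :
    α (diag α r l) = diag α r l ∧
      l⁻¹ * diag α r l ∈ Subgroup.centralizer (L : Set G) ∧
      ∀ M, IsComponent M → (∀ i, M ≠ L.map (α ^ i).toMonoidHom) →
        diag α r l ∈ Subgroup.centralizer (M : Set G) := by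
  have hmem : ∀ i, (α ^ i) l ∈ L.map (α ^ i).toMonoidHom := fun i => ⟨l, hl, rfl⟩
  obtain ⟨m, rfl⟩ : ∃ m, r = m + 1 := ⟨r - 1, (Nat.sub_add_cancel hr.pos).symm⟩
  set rest := ((List.range m).map fun i => (α ^ (i + 1)) l).prod with hrest
  have hd : diag α (m + 1) l = l * rest := by
    simp [diag, hrest, List.range_succ_eq_map, List.map_map, Function.comp_def]
  have hrc : rest ∈ Subgroup.centralizer (L : Set G) := by
    refine Subgroup.list_prod_mem _ fun x hx => ?_
    obtain ⟨i, hi, rfl⟩ := List.mem_map.mp hx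
    have hi' := List.mem_range.mp hi
    have hne := map_pow_ne hr hord hmove (i := i + 1)
      (Nat.not_dvd_of_pos_of_lt (Nat.succ_pos i) (by omega))
    exact (Subgroup.commutator_eq_bot_iff_le_centralizer.mp
      ((component_eq_or_commute (pow_component hL _) hL).resolve_left hne)) (hmem _)
  refine ⟨?_, ?_, fun M hM hne => Subgroup.list_prod_mem _ fun x hx => ?_⟩
  · have h1 : α (diag α (m + 1) l) = ((List.range (m + 1)).map fun i => (α ^ (i + 1)) l).prod := by
      rw [diag, map_list_prod, List.map_map]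
      congr 1
      refine List.map_congr_left fun i _ => ?_
      rw [Function.comp_apply, pow_succ']
      rfl
    rw [h1, List.range_succ, List.map_append, List.prod_append, List.map_singleton,
      List.prod_singleton, ← hrest, hord, MulAut.one_apply, hd]
    exact (Subgroup.mem_centralizer_iff.mp hrc l hl).symm
  · rw [hd, inv_mul_cancel_left]
    exact hrc
  · obtain ⟨i, -, rfl⟩ := List.mem_map.mp hx
    exact (Subgroup.commutator_eq_bot_iff_le_centralizer.mp
      ((component_eq_or_commute (pow_component hL _) hM).resolve_left fun e => hne i e.symm))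
      (hmem _)

end moved

/-- The hypotheses on the perfect subgroup `K`. -/
structure Config (α : MulAut G) (r : ℕ) (K : Subgroup G) : Prop where
  prime : r.Prime
  ord : α ^ r = 1
  cop : ¬ r ∣ Nat.card G
  qs : IsQuasisimple ↥K
  le_layer : K ≤ layer G
  moved : ∃ k ∈ K, α k ≠ k
  conj : ∀ c, α c = c → K.map (MulAut.conj c).toMonoidHom = K ∨
    ⁅K, K.map (MulAut.conj c).toMonoidHom⁆ = ⊥
  pow : ∀ i : ℕ, K.map (α ^ i).toMonoidHom = K ∨ ⁅K, K.map (α ^ i).toMonoidHom⁆ = ⊥

variable {α} {K : Subgroup G} (h : Config α r K)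

include h

theorem Config.perfect : ⁅K, K⁆ = K := by
  have := congrArg (Subgroup.map K.subtype) (perfect_of_quasisimple h.qs)
  rwa [commutator_def, Subgroup.map_commutator, ← MonoidHom.range_eq_map, K.range_subtype] at this

theorem Config.le_normalizer {L : Subgroup G} (hL : IsComponent L) :
    K ≤ Subgroup.normalizer (L : Set G) :=
  h.le_layer.trans (layer_le_normalizer_component hL)

/-- A fixed point centralising a component that `K` moves centralises `K`. -/
theorem Config.commute_fixed {L : Subgroup G} (hL : IsComponent L)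
    (hKc : ¬ K ≤ Subgroup.centralizer (L : Set G)) {c : G} (hc : α c = c)
    (hcL : c ∈ Subgroup.centralizer (L : Set G)) : ∀ k ∈ K, c * k * c⁻¹ = k := by
  refine commute_of_centralizes h.qs (h.le_normalizer hL) hKc hcL ?_
  refine mem_normalizer_of_map_conj_eq ((h.conj c hc).resolve_right fun hcom => hKc ?_)
  conv_lhs => rw [← h.perfect]
  rw [Subgroup.commutator_le]
  intro k hk k' hk'
  have hN := h.le_normalizer hL
  have hu : (c * k * c⁻¹)⁻¹ * k ∈ Subgroup.centralizer (L : Set G) := by
    have : (c * k * c⁻¹)⁻¹ * k = c * (k⁻¹ * c⁻¹ * k⁻¹⁻¹) := by group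
    rw [this]
    exact mul_mem hcL (conj_mem_centralizer (inv_mem (hN hk)) (inv_mem hcL))
  refine commutator_mem_centralizer ?_ (hN hk') hu (b := k') (by simp) ?_
  · exact mul_mem (mul_mem (Subgroup.centralizer_le_normalizer _ hcL) (hN hk))
      (inv_mem (Subgroup.centralizer_le_normalizer _ hcL))
  · exact (commute_of_commutator_eq_bot hcom hk' (show c * k * c⁻¹ ∈ _ from ⟨k, hk, rfl⟩)).symm

theorem Config.full {L : Subgroup G} (hL : IsComponent L)
    (hKc : ¬ K ≤ Subgroup.centralizer (L : Set G)) (hmove : L.map α.toMonoidHom ≠ L) :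
    Full K L := by
  set N := Subgroup.centralizer (L : Set G)
  have hKN : K ≤ Subgroup.normalizer (N : Set G) := fun k hk =>
    le_normalizer_centralizer le_rfl (h.le_normalizer hL hk)
  set P := (K ⊔ N).subgroupOf L with hP
  have hmem : ∀ y : G, y ∈ K ⊔ N → ∃ k ∈ K, k⁻¹ * y ∈ N := by
    intro y hy
    rw [← SetLike.mem_coe, Subgroup.coe_mul_of_left_le_normalizer_right _ _ hKN] at hy
    obtain ⟨k, hk, u, hu, rfl⟩ := Set.mem_mul.mp hy
    exact ⟨k, hk, by simpa using hu⟩
  have key : ∀ l ∈ L, ∀ p ∈ L, p ∈ K ⊔ N → ∀ q ∈ L, q ∈ K ⊔ N →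
      l * p * l⁻¹ * q * (l * p * l⁻¹)⁻¹ ∈ K ⊔ N := by
    intro l hl p hpL hp q hqL hq
    obtain ⟨hcfix, hlc, -⟩ := diag_spec h.prime h.ord hL hmove hl
    set c := diag α r l
    have hsame : l * p * l⁻¹ = c * p * c⁻¹ := same_action hlc hpL
    have hcnorm : c ∈ Subgroup.normalizer (L : Set G) := by
      have : c = l * (l⁻¹ * c) := by group
      rw [this]
      exact mul_mem (Subgroup.le_normalizer hl) (Subgroup.centralizer_le_normalizer _ hlc)
    rcases h.conj c hcfix with e | e
    · have hcK := mem_normalizer_of_map_conj_eq e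
      have hcn : c ∈ Subgroup.normalizer ((K ⊔ N : Subgroup G) : Set G) :=
        sup_le_normalizer (T := Subgroup.zpowers c) (Subgroup.zpowers_le.mpr hcK)
          (Subgroup.zpowers_le.mpr (le_normalizer_centralizer le_rfl hcnorm))
          (Subgroup.mem_zpowers c)
      have hp' : l * p * l⁻¹ ∈ K ⊔ N := hsame ▸ (Subgroup.mem_normalizer_iff.mp hcn p).mp hp
      exact mul_mem (mul_mem hp' hq) (inv_mem hp')
    · obtain ⟨k, hk, hkp⟩ := hmem p hp
      obtain ⟨k', hk', hkq⟩ := hmem q hq
      have h1 : (c * k * c⁻¹)⁻¹ * (l * p * l⁻¹) ∈ N := by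
        rw [hsame]
        have : (c * k * c⁻¹)⁻¹ * (c * p * c⁻¹) = c * (k⁻¹ * p) * c⁻¹ := by group
        rw [this]
        exact conj_mem_centralizer hcnorm hkp
      have hcom : ⁅l * p * l⁻¹, q⁆ ∈ N := commutator_mem_centralizer
        (mul_mem (mul_mem hcnorm (h.le_normalizer hL hk)) (inv_mem hcnorm))
        (h.le_normalizer hL hk') h1 hkq
        (commute_of_commutator_eq_bot e hk' (show c * k * c⁻¹ ∈ _ from ⟨k, hk, rfl⟩)).symm
      have : l * p * l⁻¹ * q * (l * p * l⁻¹)⁻¹ = ⁅l * p * l⁻¹, q⁆ * q := by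
        rw [commutatorElement_def]; group
      rw [this]
      exact mul_mem (Subgroup.mem_sup_right hcom) hq
  have hnc : ¬ P ≤ Subgroup.center ↥L := by
    intro hc
    apply hKc
    intro k hk
    obtain ⟨l, hl, w, hw, rfl⟩ := exists_decomp hL (h.le_layer hk)
    have hwN := others_le_centralizer hL hw
    have hlP : l ∈ K ⊔ N := by
      have : l = (l * w) * w⁻¹ := by group
      rw [this]
      exact mul_mem (Subgroup.mem_sup_left hk) (Subgroup.mem_sup_right (inv_mem hwN))
    refine mul_mem ?_ hwN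
    rw [Subgroup.mem_centralizer_iff]
    intro x hx
    exact congrArg Subtype.val
      (Subgroup.mem_center_iff.mp (hc (show (⟨l, hl⟩ : L) ∈ P from hlP)) ⟨x, hx⟩)
  have hP1 : P = ⊤ := by
    rcases normal_eq_top_or_le_center hL.2 (Subgroup.normalClosure_normal (s := (P : Set ↥L)))
      with e | e
    · have hn : Subgroup.normalClosure (P : Set ↥L) ≤ Subgroup.normalizer (P : Set ↥L) := by
        rw [Subgroup.normalClosure, Subgroup.closure_le]
        intro x hx
        obtain ⟨p, hp, hconj⟩ := Group.mem_conjugatesOfSet_iff.mp hx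
        obtain ⟨l, rfl⟩ := isConj_iff.mp hconj
        rw [SetLike.mem_coe, Subgroup.mem_normalizer_iff_map_conj_eq]
        refine Subgroup.eq_of_le_of_card_ge ?_
          (Nat.card_congr (Subgroup.equivMapOfInjective _ _ (MulEquiv.injective _)).toEquiv).le
        rintro _ ⟨q, hq, rfl⟩
        exact key l l.2 p p.2 hp q q.2 hq
      rw [e, top_le_iff] at hn
      exact (normal_eq_top_or_le_center hL.2 (Subgroup.normalizer_eq_top_iff.mp hn)).resolve_right hnc
    · exact absurd (Subgroup.subset_normalClosure.trans e) hnc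
  intro l hl
  exact hmem l (show (⟨l, hl⟩ : L) ∈ P from hP1 ▸ Subgroup.mem_top _)

omit h in
/-- A group with a coprime automorphism of prime order whose fixed points are central is solvable. -/
theorem solvable_of_fixed_central {Q : Type*} [Group Q] [Finite Q] {r : ℕ} (hr : r.Prime)
    (β : MulAut Q) (hord : β ^ r = 1) (hcop : ¬ r ∣ Nat.card Q)
    (hfix : ∀ g, β g = g → g ∈ Subgroup.center Q) : Group.IsSolvable Q := by
  classical
  set Z := Subgroup.center Q with hZdef
  let : CommGroup ↥Z := { (inferInstance : Group ↥Z) with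
    mul_comm := fun a b => Subtype.ext (Subgroup.mem_center_iff.mp b.2 a) }
  have hmap : Z.map β.toMonoidHom = Z := Subgroup.characteristic_iff_map_eq.mp inferInstance β
  let βZ : ↥Z →* ↥Z := (β.toMonoidHom.comp Z.subtype).codRestrict Z fun z => by
    have hm : β (z : Q) ∈ Z.map β.toMonoidHom := ⟨z, z.2, rfl⟩
    rwa [hmap] at hm
  have hlift : ∀ g : Q, g⁻¹ * β g ∈ Z → g ∈ Z := by
    intro g hg
    set z : ↥Z := ⟨g⁻¹ * β g, hg⟩
    let w : ℕ → ↥Z := fun i => (βZ^[i]) z
    -- `s i` is the difference between `g` and its image under `β ^ i`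
    let s : ℕ → ↥Z := fun i => ∏ j ∈ Finset.range i, w j
    have hs : ∀ i, (β ^ i) g = g * (s i : Q) := by
      intro i
      induction i with
      | zero => simp [s]
      | succ i ih =>
        rw [pow_succ', MulAut.mul_apply, ih, map_mul]
        have e1 : β g = g * (z : Q) := by simp [z]
        have e2 : β (s i : Q) = (βZ (s i) : Q) := rfl
        have e3 : s (i + 1) = z * βZ (s i) := by
          simp only [s, map_prod]
          rw [Finset.prod_range_succ', mul_comm]
          congr 1
          refine Finset.prod_congr rfl fun j _ => ?_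
          simp only [w, Function.iterate_succ_apply']
        rw [e1, e2, e3, Subgroup.coe_mul, mul_assoc]
    let y : ↥Z := ∏ i ∈ Finset.range r, s i
    have hsr : s r = 1 := by
      have := hs r
      rw [hord, MulAut.one_apply, left_eq_mul] at this
      exact Subtype.ext this
    have hy : z ^ r * βZ y = y := by
      calc z ^ r * βZ y = ∏ i ∈ Finset.range r, (z * βZ (s i)) := by
            rw [Finset.prod_mul_distrib, map_prod, Finset.prod_const, Finset.card_range]
        _ = ∏ i ∈ Finset.range r, s (i + 1) := Finset.prod_congr rfl fun i _ => by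
            simp only [s, map_prod]
            rw [Finset.prod_range_succ', mul_comm]
            congr 1
            exact Finset.prod_congr rfl fun j _ => (Function.iterate_succ_apply' _ _ _).symm
        _ = y := by
            have e1 := Finset.prod_range_succ' s r
            have e2 := Finset.prod_range_succ s r
            rw [e1] at e2
            simpa [hsr, s, y] using e2
    have hzg : Commute g (z : Q) := Subgroup.mem_center_iff.mp z.2 g
    have hfixed : β (g ^ r * (y : Q)) = g ^ r * (y : Q) := by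
      have e1 : β g = g * (z : Q) := by simp [z]
      rw [map_mul, map_pow, e1, hzg.mul_pow, mul_assoc,
        show ((z : Q)) ^ r * β (y : Q) = ((z ^ r * βZ y : ↥Z) : Q) from rfl, hy]
    have hgr : g ^ r ∈ Z := (Subgroup.mul_mem_cancel_right _ y.2).mp (hfix _ hfixed)
    have hcop' : (orderOf g).Coprime r :=
      ((Nat.Prime.coprime_iff_not_dvd hr).mpr fun hd => hcop (hd.trans (orderOf_dvd_natCard g))).symm
    obtain ⟨n, hn⟩ := exists_pow_eq_self_of_coprime hcop'.symm
    rw [← hn]
    exact pow_mem hgr n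
  let ψ : MulAut (Q ⧸ Z) := QuotientGroup.congr Z Z β hmap
  have hψ : ∀ g : Q, ψ g = ((β g : Q) : Q ⧸ Z) := fun g => rfl
  have hψfix : ∀ x : Q ⧸ Z, ψ x = x → x = 1 := by
    intro x
    induction x using QuotientGroup.induction_on with
    | _ g =>
      intro hx
      rw [hψ, eq_comm, QuotientGroup.eq] at hx
      exact (QuotientGroup.eq_one_iff g).mpr (hlift g hx)
  have hψord : ψ ^ r = 1 := by
    have : ∀ i : ℕ, ∀ g : Q, (ψ ^ i) (g : Q ⧸ Z) = ((β ^ i) g : Q) := by
      intro i
      induction i with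
      | zero => intro g; rfl
      | succ i ih => intro g; rw [pow_succ', pow_succ', MulAut.mul_apply, ih, hψ]; rfl
    ext x
    induction x using QuotientGroup.induction_on with
    | _ g => rw [this, hord]; rfl
  have hq : Group.IsSolvable (Q ⧸ Z) := by
    by_cases h1 : ψ = 1
    · have : ∀ x : Q ⧸ Z, x = 1 := fun x => hψfix x (by rw [h1]; rfl)
      have : Subsingleton (Q ⧸ Z) := ⟨fun a b => by rw [this a, this b]⟩
      infer_instance
    · have hord' : orderOf ψ = r := by
        have := (Nat.dvd_prime hr).mp (orderOf_dvd_of_pow_eq_one hψord)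
        exact this.resolve_left fun e => h1 (orderOf_eq_one_iff.mp e)
      have := Cfsg.Agent.S0033.result ψ (fun x hx => hψfix x hx) r hr hord'
      infer_instance
  refine (Group.isSolvable_iff_subgroup_quotient Z).mpr ⟨?_, hq⟩
  rw [hZdef]
  infer_instance

/-- Two moved components, the first not `α`-invariant. -/
theorem Config.absurd_moved {L M : Subgroup G} (hL : IsComponent L) (hM : IsComponent M)
    (hKL : ¬ K ≤ Subgroup.centralizer (L : Set G))
    (hKM : ¬ K ≤ Subgroup.centralizer (M : Set G)) (hne : L ≠ M)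
    (hmove : L.map α.toMonoidHom ≠ L) : False := by
  have hN := h.le_normalizer hL
  by_cases horb : ∀ i, M ≠ L.map (α ^ i).toMonoidHom
  · apply hKL
    have hLc : ∀ k ∈ K, ∀ l ∈ L, k * l * k⁻¹ = l := by
      intro k hk
      refine fixed_of_central_shift (isComponent_perfect hL) (MulAut.conj k).toMonoidHom
        (fun l hl => (Subgroup.mem_normalizer_iff.mp (hN hk) l).mp hl) fun l hl l' hl' => ?_
      obtain ⟨hfix, hlc, hothers⟩ := diag_spec h.prime h.ord hL hmove hl
      have hck := h.commute_fixed hM hKM hfix (hothers M hM horb) k hk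
      set c := diag α r l
      have hz : l⁻¹ * (k * l * k⁻¹) ∈ Subgroup.centralizer (L : Set G) := by
        have e : k * c * k⁻¹ = c := by
          calc k * c * k⁻¹ = (c * k * c⁻¹) * c * k⁻¹ := by rw [hck]
            _ = c := by group
        have : l⁻¹ * (k * l * k⁻¹) = (l⁻¹ * c) * (k * (l⁻¹ * c)⁻¹ * k⁻¹) := by
          calc l⁻¹ * (k * l * k⁻¹) = l⁻¹ * (k * c * k⁻¹) * (k * (c⁻¹ * l) * k⁻¹) := by group
            _ = l⁻¹ * c * (k * (c⁻¹ * l) * k⁻¹) := by rw [e]
            _ = (l⁻¹ * c) * (k * (l⁻¹ * c)⁻¹ * k⁻¹) := by group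
        rw [this]
        exact mul_mem hlc (conj_mem_centralizer (hN hk) (inv_mem hlc))
      exact (Subgroup.mem_centralizer_iff.mp hz l' hl').symm
    intro k hk
    rw [Subgroup.mem_centralizer_iff]
    intro l hl
    calc l * k = (k * l * k⁻¹) * k := by rw [hLc k hk l hl]
      _ = k * l := by group
  · push_neg at horb
    obtain ⟨j, rfl⟩ := horb
    have hfull := h.full hL hKL hmove
    have hfullM := h.full hM hKM (by
      intro e
      apply hmove
      apply Subgroup.map_injective (f := (α ^ j).toMonoidHom) (α ^ j).injective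
      conv_rhs => rw [← e]
      rw [Subgroup.map_map, Subgroup.map_map]
      congr 1
      ext x
      show (α ^ j) (α x) = α ((α ^ j) x)
      rw [← MulAut.mul_apply, ← MulAut.mul_apply, ← pow_succ, ← pow_succ'])
    have hrj : ¬ r ∣ j := fun ⟨t, ht⟩ =>
      hne (by rw [ht, pow_mul, h.ord, one_pow]; exact (Subgroup.map_id L).symm)
    have hKj : K.map (α ^ j).toMonoidHom = K := by
      refine (h.pow j).resolve_right (not_commute_of_full hM (h.le_normalizer hM) ?_ hfullM
        (full_map hfull _))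
      rintro _ ⟨k, hk, rfl⟩
      rw [← Subgroup.map_equiv_normalizer_eq (H := L) (α ^ j)]
      exact ⟨k, hN hk, rfl⟩
    have hK1 : K.map α.toMonoidHom = K := by
      by_contra hc
      exact map_pow_ne h.prime h.ord hc hrj hKj
    obtain ⟨k₀, hk₀, hk₀'⟩ := h.moved
    apply hk₀'
    refine fixed_of_central_shift h.perfect α.toMonoidHom
      (fun k hk => hK1 ▸ ⟨k, hk, rfl⟩) (fun k hk k' hk' => ?_) k₀ hk₀
    obtain ⟨l, hl, w, hw, rfl⟩ := exists_decomp hL (h.le_layer hk)
    have hwN := others_le_centralizer hL hw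
    obtain ⟨hfix, hlc, -⟩ := diag_spec h.prime h.ord hL hmove hl
    set c := diag α r l
    have hcnorm : c ∈ Subgroup.normalizer (L : Set G) := by
      have : c = l * (l⁻¹ * c) := by group
      rw [this]
      exact mul_mem (Subgroup.le_normalizer hl) (Subgroup.centralizer_le_normalizer _ hlc)
    have hcL : L.map (MulAut.conj c).toMonoidHom = L := map_conj_eq_of_mem_normalizer hcnorm
    have hcK : c ∈ Subgroup.normalizer (K : Set G) := by
      refine mem_normalizer_of_map_conj_eq ((h.conj c hfix).resolve_right ?_)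
      have hfc := full_map hfull (MulAut.conj c)
      rw [hcL] at hfc
      refine not_commute_of_full hL hN ?_ hfull hfc
      rintro _ ⟨x, hx, rfl⟩
      exact mul_mem (mul_mem hcnorm (hN hx)) (inv_mem hcnorm)
    have hu : c⁻¹ * (l * w) ∈ Subgroup.centralizer (L : Set G) := by
      have : c⁻¹ * (l * w) = (l⁻¹ * c)⁻¹ * w := by group
      rw [this]
      exact mul_mem (inv_mem hlc) hwN
    have hsame : ∀ k' ∈ K, c * k' * c⁻¹ = (l * w) * k' * (l * w)⁻¹ := by
      intro k' hk'
      have := commute_of_centralizes h.qs hN hKL hu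
        (mul_mem (inv_mem hcK) (Subgroup.le_normalizer hk)) k' hk'
      calc c * k' * c⁻¹ = c * (c⁻¹ * (l * w) * k' * (c⁻¹ * (l * w))⁻¹) * c⁻¹ := by rw [this]
        _ = _ := by group
    have hk'' : k' ∈ K.map α.toMonoidHom := by rw [hK1]; exact hk'
    obtain ⟨x, hx, rfl⟩ := hk''
    have e1 := congrArg α (hsame x hx)
    simp only [map_mul, map_inv, hfix] at e1
    have e2 := hsame (α x) (hK1 ▸ ⟨x, hx, rfl⟩)
    rw [e2] at e1
    show ((l * w)⁻¹ * α (l * w)) * α x = α x * ((l * w)⁻¹ * α (l * w))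
    rw [map_mul]
    calc (l * w)⁻¹ * (α l * α w) * α x
        = (l * w)⁻¹ * (α l * α w * α x * (α l * α w)⁻¹) * (α l * α w) := by group
      _ = (l * w)⁻¹ * (l * w * α x * (l * w)⁻¹) * (α l * α w) := by rw [← e1]
      _ = α x * ((l * w)⁻¹ * (α l * α w)) := by group

/-- `K` moves exactly one component. -/
theorem Config.unique {L M : Subgroup G} (hL : IsComponent L) (hM : IsComponent M)
    (hKL : ¬ K ≤ Subgroup.centralizer (L : Set G))
    (hKM : ¬ K ≤ Subgroup.centralizer (M : Set G)) : L = M := by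
  by_contra hne
  by_cases hmove : L.map α.toMonoidHom = L
  · by_cases hmoveM : M.map α.toMonoidHom = M
    · -- both invariant
      set F : Subgroup G := (MonoidHom.eqLocus α.toMonoidHom (MonoidHom.id G)) ⊓ L with hF
      set Q := L ⊓ Subgroup.centralizer (F : Set G) with hQ
      have hFK : ∀ c ∈ F, ∀ k ∈ K, c * k * c⁻¹ = k := fun c hc =>
        h.commute_fixed hM hKM hc.1 ((Subgroup.commutator_eq_bot_iff_le_centralizer.mp
          ((component_eq_or_commute hL hM).resolve_left hne)) hc.2)
      have hmemL : ∀ x, α x ∈ L ↔ x ∈ L := fun x => by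
        conv_lhs => rw [← hmove]
        exact Subgroup.mem_map_equiv.trans (by simp)
      have hfixF : ∀ c ∈ F, α c = c := fun c hc => hc.1
      have hmap : Q.map α.toMonoidHom = Q := by
        apply Subgroup.eq_of_le_of_card_ge
        · rintro _ ⟨x, hx, rfl⟩
          refine ⟨(hmemL x).mpr hx.1, Subgroup.mem_centralizer_iff.mpr fun c hc => ?_⟩
          show c * α x = α x * c
          rw [← hfixF c hc, ← map_mul, ← map_mul, Subgroup.mem_centralizer_iff.mp hx.2 c hc]
        · exact (Nat.card_congr (Subgroup.equivMapOfInjective Q _ α.injective).toEquiv).le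
      let β : MulAut ↥Q := (α.subgroupMap Q).trans (MulEquiv.subgroupCongr hmap)
      have hβ : ∀ (i : ℕ) (x : ↥Q), ((β ^ i) x : G) = (α ^ i) (x : G) := by
        intro i
        induction i with
        | zero => intro x; rfl
        | succ i ih =>
          intro x
          rw [pow_succ', pow_succ', MulAut.mul_apply, MulAut.mul_apply, ← ih]
          rfl
      have hsolv : Group.IsSolvable ↥Q := by
        refine solvable_of_fixed_central h.prime β ?_ ?_ ?_
        · ext x
          rw [hβ, h.ord]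
          rfl
        · exact fun hd => h.cop (hd.trans (Subgroup.card_subgroup_dvd_card Q))
        · intro g hg
          rw [Subgroup.mem_center_iff]
          intro x
          have hgF : (g : G) ∈ F := ⟨congrArg Subtype.val hg, g.2.1⟩
          exact Subtype.ext (Subgroup.mem_centralizer_iff.mp x.2.2 _ hgF).symm
      apply hKL
      set N := Subgroup.normalizer (L : Set G) with hN
      have hQN : Q ≤ N := inf_le_left.trans Subgroup.le_normalizer
      have hKN := h.le_normalizer hL
      let ρ : ↥N →* ↥N ⧸ (Subgroup.centralizer (L : Set G)).subgroupOf N :=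
        QuotientGroup.mk' _
      have hKQ : (K.subgroupOf N).map ρ ≤ (Q.subgroupOf N).map ρ := by
        rintro _ ⟨⟨k, hkN⟩, hk, rfl⟩
        change k ∈ K at hk
        obtain ⟨l, hl, w, hw, rfl⟩ := exists_decomp hL (h.le_layer hk)
        have hlQ : l ∈ Q := by
          refine ⟨hl, Subgroup.mem_centralizer_iff.mpr fun c hc => ?_⟩
          have hcw : c * w = w * c :=
            Subgroup.mem_centralizer_iff.mp (others_le_centralizer hL hw) c hc.2
          have e := hFK c hc _ hk
          calc c * l = (c * (l * w) * c⁻¹) * c * w⁻¹ := by group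
            _ = (l * w) * c * w⁻¹ := by rw [e]
            _ = l * (w * c) * w⁻¹ := by group
            _ = l * (c * w) * w⁻¹ := by rw [hcw]
            _ = l * c := by group
        refine ⟨⟨l, hQN hlQ⟩, hlQ, ?_⟩
        rw [QuotientGroup.mk'_eq_mk']
        exact ⟨⟨w, Subgroup.centralizer_le_normalizer _ (others_le_centralizer hL hw)⟩,
          others_le_centralizer hL hw, rfl⟩
      have hperfN : ⁅K.subgroupOf N, K.subgroupOf N⁆ = K.subgroupOf N := by
        apply Subgroup.map_injective N.subtype_injective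
        rw [Subgroup.map_commutator, Subgroup.map_subgroupOf_eq_of_le hKN, h.perfect]
      have hperfρ : ⁅(K.subgroupOf N).map ρ, (K.subgroupOf N).map ρ⁆ = (K.subgroupOf N).map ρ := by
        rw [← Subgroup.map_commutator, hperfN]
      have hsQ : Group.IsSolvable ↥((Q.subgroupOf N).map ρ) := by
        have : Group.IsSolvable ↥(Q.subgroupOf N) :=
          solvable_of_surjective (f := (Subgroup.subgroupOfEquivOfLe hQN).symm.toMonoidHom)
            (Subgroup.subgroupOfEquivOfLe hQN).symm.surjective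
        exact solvable_of_surjective (MonoidHom.subgroupMap_surjective ρ (Q.subgroupOf N))
      have hsK : Group.IsSolvable ↥((K.subgroupOf N).map ρ) :=
        solvable_of_solvable_injective (Subgroup.inclusion_injective hKQ)
      have hbot : (K.subgroupOf N).map ρ = ⊥ := by
        by_contra hb
        have : Nontrivial ↥((K.subgroupOf N).map ρ) := (Subgroup.nontrivial_iff_ne_bot _).mpr hb
        have hlt := Group.IsSolvable.commutator_lt_top_of_nontrivial ↥((K.subgroupOf N).map ρ)
        apply hlt.ne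
        apply Subgroup.map_injective (Subgroup.subtype_injective _)
        rw [Subgroup.map_subtype_commutator, hperfρ, ← MonoidHom.range_eq_map, Subgroup.range_subtype]
      intro k hk
      have : ρ ⟨k, hKN hk⟩ = 1 := by
        have hm : ρ ⟨k, hKN hk⟩ ∈ (K.subgroupOf N).map ρ := ⟨_, hk, rfl⟩
        rwa [hbot, Subgroup.mem_bot] at hm
      exact (QuotientGroup.eq_one_iff (⟨k, hKN hk⟩ : ↥N)).mp this
    · exact (show False from Config.absurd_moved h hM hL hKM hKL (Ne.symm hne) hmoveM)
  · exact Config.absurd_moved h hL hM hKL hKM hne hmove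

theorem Config.conclusion :
    IsComponent K ∨ ∃ L, IsComponent L ∧ L.map α.toMonoidHom = L ∧ K ≤ L := by
  obtain ⟨L, hL, hKL⟩ : ∃ L : Subgroup G, IsComponent L ∧ ¬ K ≤ Subgroup.centralizer (L : Set G) := by
    by_contra hc
    replace hc : ∀ L : Subgroup G, IsComponent L → K ≤ Subgroup.centralizer (L : Set G) := fun L hL =>
      Classical.byContradiction fun hn => hc ⟨L, hL, hn⟩
    apply not_isMulCommutative_of_quasisimple h.qs
    have hlay : layer G ≤ Subgroup.centralizer (K : Set G) :=
      layer_le_iff.mpr fun L hL =>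
        Subgroup.le_centralizer_iff.mp (show K ≤ Subgroup.centralizer (L : Set G) from hc L hL)
    exact Subgroup.le_centralizer_iff_isMulCommutative.mp (h.le_layer.trans hlay)
  have hW : sSup {M | IsComponent M ∧ M ≠ L} ≤ Subgroup.centralizer (K : Set G) :=
    sSup_le fun M hM => Subgroup.le_centralizer_iff.mp (by
      by_contra hc
      exact hM.2 (h.unique hM.1 hL hc hKL))
  have hle : K ≤ L := by
    conv_lhs => rw [← h.perfect]
    rw [Subgroup.commutator_le]
    intro k hk k' hk'
    obtain ⟨l, hl, w, hw, rfl⟩ := exists_decomp hL (h.le_layer hk)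
    obtain ⟨l', hl', w', hw', rfl⟩ := exists_decomp hL (h.le_layer hk')
    have c1 : l' * w = w * l' :=
      Subgroup.mem_centralizer_iff.mp (others_le_centralizer hL hw) l' hl'
    have c2 : l' * w' * w = w * (l' * w') := Subgroup.mem_centralizer_iff.mp (hW hw) _ hk'
    have c3 : l * w' = w' * l :=
      Subgroup.mem_centralizer_iff.mp (others_le_centralizer hL hw') l hl
    have : ⁅l * w, l' * w'⁆ = ⁅l, l'⁆ := by
      have c4 : w * w' = w' * w :=
        mul_left_cancel (show l' * (w * w') = l' * (w' * w) by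
          rw [← mul_assoc, c1, mul_assoc, ← c2, mul_assoc])
      rw [commutatorElement_def, commutatorElement_def]
      calc l * w * (l' * w') * (l * w)⁻¹ * (l' * w')⁻¹
          = l * (w * (l' * w')) * w⁻¹ * l⁻¹ * (l' * w')⁻¹ := by group
        _ = l * ((l' * w') * w) * w⁻¹ * l⁻¹ * (l' * w')⁻¹ := by rw [c2]
        _ = l * l' * (w' * l⁻¹) * w'⁻¹ * l'⁻¹ := by group
        _ = l * l' * (l⁻¹ * w') * w'⁻¹ * l'⁻¹ := by
            rw [(Commute.inv_right (a := w') (b := l) c3.symm).eq]
        _ = l * l' * l⁻¹ * l'⁻¹ := by group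
    rw [this]
    exact mul_mem (mul_mem (mul_mem hl hl') (inv_mem hl)) (inv_mem hl')
  by_cases hmove : L.map α.toMonoidHom = L
  · exact Or.inr ⟨L, hL, hmove, hle⟩
  refine Or.inl ?_
  have hLK : L ≤ K := by
    conv_lhs => rw [← isComponent_perfect hL]
    rw [Subgroup.commutator_le]
    intro x hx y hy
    obtain ⟨k, hk, hkc⟩ := h.full hL hKL hmove x hx
    obtain ⟨k', hk', hkc'⟩ := h.full hL hKL hmove y hy
    set u := k⁻¹ * x with hu
    set v := k'⁻¹ * y with hv
    have hxu : x = k * u := by rw [hu, mul_inv_cancel_left]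
    have hyv : y = k' * v := by rw [hv, mul_inv_cancel_left]
    have hu' : ∀ m ∈ L, Commute m u := fun m hm => Subgroup.mem_centralizer_iff.mp hkc m hm
    have hv' : ∀ m ∈ L, Commute m v := fun m hm => Subgroup.mem_centralizer_iff.mp hkc' m hm
    have huv : Commute u v := hv' u (mul_mem (inv_mem (hle hk)) hx)
    have : ⁅x, y⁆ = ⁅k, k'⁆ := by
      rw [hxu, hyv, commutatorElement_def, commutatorElement_def]
      calc k * u * (k' * v) * (k * u)⁻¹ * (k' * v)⁻¹
          = k * (u * k') * v * u⁻¹ * k⁻¹ * v⁻¹ * k'⁻¹ := by group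
        _ = k * (k' * u) * v * u⁻¹ * k⁻¹ * v⁻¹ * k'⁻¹ := by rw [(hu' k' (hle hk')).eq]
        _ = k * k' * (u * v) * u⁻¹ * k⁻¹ * v⁻¹ * k'⁻¹ := by group
        _ = k * k' * (v * u) * u⁻¹ * k⁻¹ * v⁻¹ * k'⁻¹ := by rw [huv.eq]
        _ = k * k' * (v * k⁻¹) * v⁻¹ * k'⁻¹ := by group
        _ = k * k' * (k⁻¹ * v) * v⁻¹ * k'⁻¹ := by rw [((hv' k (hle hk)).symm.inv_right).eq]
        _ = k * k' * k⁻¹ * k'⁻¹ := by group
    rw [this]
    exact mul_mem (mul_mem (mul_mem hk hk') (inv_mem hk)) (inv_mem hk')
  exact le_antisymm hle hLK ▸ hL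

end layer

end H15.Trichotomy
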