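import Cfsg.Agent.H15.Trichotomy.Ambient
import Cfsg.Agent.H12.RComp.Final

/-!
The component trichotomy from the fixed-point theorem of Shult type.
-/

set_option autoImplicit false

universe u

namespace H15.Trichotomy

theorem layerStep_of_shult (hSh : H12.RComp.Shult.{u}) : LayerStep.{u} := by
  intro X _ _ G R r _ hR hcop hnorm H hHG hinv hHR
  exact H12.RComp.s1933 hSh G R r hR hcop hnorm H hHG hinv hHR

end H15.Trichotomy
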